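import Cfsg.Agent.CharDeep.Ext.Thompson
import Cfsg.Agent.CharDeep.Deg.TwoDeg
import Cfsg.Agent.Lib.CharClifford.Eigen

/-!
# Determinants of multiples, and transfer to a normal subgroup inside the derived subgroup
-/

set_option autoImplicit false

open Cfsg.Agent.CharDeep.Ext

namespace Cfsg.Agent.BC86.RelGraph

universe u

variable {G : Type u} [Group G] [Finite G]

theorem detHom_nsmul (k : ℕ) {θ : G → ℂ} (hθ : Cfsg.IsCharacter G θ) :
    detHom (fun g => (k : ℂ) * θ g) = detHom θ ^ k := by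
  have hk : Cfsg.IsCharacter G (fun g => (k : ℂ) * θ g) := by
    have := CharCore.isCharacter_natCast_smul hθ k
    exact this
  obtain ⟨a, ρ, rfl⟩ := hθ
  obtain ⟨b, σ, hσ⟩ := hk
  rw [← hσ, detHom_eq, detHom_eq]
  refine MonoidHom.ext fun y => Units.ext ?_
  have hn : Nat.card G ≠ 0 := Nat.card_pos.ne'
  obtain ⟨bρ, μ, hμ, hev, hsum⟩ := CharClifford.exists_eigenvalues ρ y hn pow_card_eq_one'
  obtain ⟨bσ, ν, hν, hev', hsum'⟩ := CharClifford.exists_eigenvalues σ y hn pow_card_eq_one'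
  rw [MonoidHom.pow_apply, Units.val_pow_eq_pow_val]
  show LinearMap.det (σ y) = LinearMap.det (ρ y) ^ k
  rw [det_eq_prod_eigen bσ ν _ hev', det_eq_prod_eigen bρ μ _ hev,
    prod_eq_of_power_sums ν (fun i : Fin k × _ => μ i.2) (Nat.pos_of_ne_zero hn) hν
      (fun i => hμ i.2) fun j => ?_, Fintype.prod_prod_type]
  · simp
  · rw [← hsum' j, hσ, Fintype.sum_prod_type]
    show (k : ℂ) * ρ.character (y ^ j) = _
    rw [hsum j]
    simp

/-- A linear character of a subgroup above `N ≤ G'` agreeing on `N` with an invariant one. -/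
theorem pow_index_eq_one (N : Subgroup G) [hN : N.Normal] (hNG : N ≤ commutator G)
    {H : Subgroup G} (hNH : N ≤ H) (ν : H →* ℂˣ) (l : N →* ℂˣ)
    (hinv : ∀ (g : G) (n : N), l ⟨g * n * g⁻¹, hN.conj_mem (n : G) n.2 g⟩ = l n)
    (hν : ∀ n : N, ν ⟨n, hNH n.2⟩ = l n) : l ^ H.index = 1 := by
  ext n
  have hmem : ∀ x : G, x⁻¹ * (n : G) * x ∈ H := fun x => by
    have := hNH (hN.conj_mem (n : G) n.2 x⁻¹)
    rwa [inv_inv] at this
  have h0 : ν ⟨(n : G), by simpa using hmem 1⟩ = l n := hν n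
  have h1 := transfer_eq_pow_of_conj ν (n : G) hmem fun x => by
    have hm : x⁻¹ * (n : G) * x ∈ N := by
      have := hN.conj_mem (n : G) n.2 x⁻¹
      rwa [inv_inv] at this
    rw [h0, ← hinv x⁻¹ n]
    exact (hν ⟨_, hm⟩).trans (congrArg l (Subtype.ext (by simp)))
  have h2 : MonoidHom.transfer ν (n : G) = 1 :=
    Abelianization.commutator_subset_ker (MonoidHom.transfer ν) (hNG n.2)
  rw [h2, h0] at h1
  rw [MonoidHom.pow_apply, MonoidHom.one_apply, ← h1]

end Cfsg.Agent.BC86.RelGraph
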