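import Mathlib
import Cfsg.Agent.CharDeep.Ext.GoingDown

/-!
# Orbits on functions on a normal subgroup
-/

set_option autoImplicit false

open MulAction

namespace Cfsg.Agent.BC86.RelGraph

universe u

/-- A pair of points with orbits of coprime sizes has the full product as orbit. -/
theorem exists_smul_pair {G : Type*} [Group G] [Finite G] {X : Type*} [MulAction G X] {a b : X}
    (hcop : Nat.Coprime (stabilizer G a).index (stabilizer G b).index) {a' b' : X}
    (ha : a' ∈ orbit G a) (hb : b' ∈ orbit G b) : ∃ g : G, g • a = a' ∧ g • b = b' := by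
  have hsub : orbit G (a, b) ⊆ orbit G a ×ˢ orbit G b := by
    rintro _ ⟨g, rfl⟩
    exact ⟨mem_orbit a g, mem_orbit b g⟩
  have h1 : stabilizer G (a, b) ≤ stabilizer G a := fun g hg => congrArg Prod.fst (mem_stabilizer_iff.mp hg)
  have h2 : stabilizer G (a, b) ≤ stabilizer G b := fun g hg => congrArg Prod.snd (mem_stabilizer_iff.mp hg)
  have hdvd := hcop.mul_dvd_of_dvd_of_dvd (Subgroup.index_dvd_of_le h1) (Subgroup.index_dvd_of_le h2)
  rw [index_stabilizer, index_stabilizer, index_stabilizer, ← Set.ncard_prod] at hdvd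
  have hne : (orbit G (a, b)).ncard ≠ 0 := by
    rw [← index_stabilizer]
    exact Subgroup.index_ne_zero_of_finite
  have hfin : (orbit G a ×ˢ orbit G b).Finite :=
    (Set.finite_range _).prod (Set.finite_range _)
  have heq := Set.eq_of_subset_of_ncard_le hsub (Nat.le_of_dvd (Nat.pos_of_ne_zero hne) hdvd) hfin
  obtain ⟨g, hg⟩ : (a', b') ∈ orbit G (a, b) := heq ▸ (⟨ha, hb⟩ : (a', b') ∈ orbit G a ×ˢ orbit G b)
  exact ⟨g, congrArg Prod.fst hg, congrArg Prod.snd hg⟩

variable {G : Type u} [Group G] (N : Subgroup G) [hN : N.Normal]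

/-- Conjugation of functions on a normal subgroup, as a left action. -/
@[reducible]
def fnAction : MulAction G (N → ℂ) where
  smul g f := CharDeep.Ext.conjFn N f g⁻¹
  one_smul f := by
    show CharDeep.Ext.conjFn N f (1 : G)⁻¹ = f
    rw [inv_one, CharDeep.Ext.conjFn_one]
  mul_smul g h f := by
    show CharDeep.Ext.conjFn N f (g * h)⁻¹ = CharDeep.Ext.conjFn N (CharDeep.Ext.conjFn N f h⁻¹) g⁻¹
    rw [mul_inv_rev, CharDeep.Ext.conjFn_conjFn]

attribute [local instance] fnAction

theorem smul_fn_apply (g : G) (f : N → ℂ) (n : N) :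
    (g • f) n = f (MulAut.conjNormal g⁻¹ n) :=
  congrArg f (Subtype.ext (MulAut.conjNormal_apply g⁻¹ n).symm)

theorem smul_fn_mul (g : G) (f f' : N → ℂ) : g • (f * f') = (g • f) * (g • f') := rfl

theorem stabilizer_eq_inertia (f : N → ℂ) :
    stabilizer G f = CharDeep.Ext.inertia N f := by
  ext g
  rw [← inv_mem_iff (x := g), mem_stabilizer_iff]
  show CharDeep.Ext.conjFn N f g⁻¹⁻¹ = f ↔ CharDeep.Ext.conjFn N f g = f
  rw [inv_inv]

/-- The function given by a linear character. -/
def coeFn (φ : N →* ℂˣ) : N → ℂ := fun n => (φ n : ℂ)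

theorem coeFn_injective : Function.Injective (coeFn N) := fun _ _ h =>
  MonoidHom.ext fun n => Units.ext (congrFun h n)

theorem coeFn_mul (φ ψ : N →* ℂˣ) : coeFn N (φ * ψ) = coeFn N φ * coeFn N ψ := rfl

theorem coeFn_one : coeFn N 1 = 1 := rfl

theorem coeFn_pow (φ : N →* ℂˣ) (k : ℕ) : coeFn N (φ ^ k) = coeFn N φ ^ k := by
  funext n
  simp [coeFn]

/-- Conjugation of linear characters. -/
noncomputable def conjLin (g : G) : (N →* ℂˣ) →* (N →* ℂˣ) :=
  MonoidHom.compHom' (MulAut.conjNormal g⁻¹ : MulAut N).toMonoidHom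

theorem smul_coeFn (g : G) (φ : N →* ℂˣ) : g • coeFn N φ = coeFn N (conjLin N g φ) :=
  funext fun n => smul_fn_apply N g (coeFn N φ) n

theorem mem_orbit_coeFn {φ : N →* ℂˣ} {f : N → ℂ} (h : f ∈ orbit G (coeFn N φ)) :
    ∃ g : G, f = coeFn N (conjLin N g φ) := by
  obtain ⟨g, rfl⟩ := h
  exact ⟨g, smul_coeFn N g φ⟩

theorem stabilizer_coeFn (φ : N →* ℂˣ) {g : G} :
    g ∈ stabilizer G (coeFn N φ) ↔ conjLin N g φ = φ := by
  rw [mem_stabilizer_iff, smul_coeFn, (coeFn_injective N).eq_iff]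

variable [Finite G]

/-- If `μ = a φ` and the orbit sizes of `a`, `μ` are coprime to that of `φ`, then the orbit of `a`
is invariant under the quotient of two conjugates of `φ`. -/
theorem shift {a : N → ℂ} {φ : N →* ℂˣ}
    (hcop : Nat.Coprime (stabilizer G a).index (stabilizer G (coeFn N φ)).index)
    (hcop' : Nat.Coprime (stabilizer G (a * coeFn N φ)).index (stabilizer G (coeFn N φ)).index)
    {a' : N → ℂ} (ha : a' ∈ orbit G a) (x y : G) :
    a' * coeFn N (conjLin N x φ * (conjLin N y φ)⁻¹) ∈ orbit G a := by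
  obtain ⟨g, hga, hgφ⟩ := exists_smul_pair hcop ha (mem_orbit (coeFn N φ) x)
  obtain ⟨h, hhμ, hhφ⟩ := exists_smul_pair hcop' (mem_orbit (a * coeFn N φ) g)
    (mem_orbit (coeFn N φ) y)
  refine ⟨h, ?_⟩
  show h • a = _
  rw [smul_fn_mul, smul_fn_mul, hga, hgφ, hhφ, smul_coeFn, smul_coeFn] at hhμ
  funext n
  have h1 := congrFun hhμ n
  simp only [Pi.mul_apply, coeFn] at h1 ⊢
  rw [MonoidHom.mul_apply, MonoidHom.inv_apply, Units.val_mul, Units.val_inv_eq_inv_val,
    ← mul_assoc, eq_mul_inv_iff_mul_eq₀ (Units.ne_zero _)]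
  exact h1

/-- An orbit of size prime to `p` closed under a multiplication of order `p` has a fixed point. -/
theorem exists_fixed_mul {a : N → ℂ} {p : ℕ} [hp : Fact p.Prime]
    (hpa : ¬ p ∣ (stabilizer G a).index) {w : N →* ℂˣ} (hw : w ^ p = 1)
    (hmem : ∀ a' ∈ orbit G a, a' * coeFn N w ∈ orbit G a) :
    ∃ a' ∈ orbit G a, a' * coeFn N w = a' := by
  classical
  haveI : Finite (orbit G a) := (Set.finite_range _).to_subtype
  haveI : Fintype (orbit G a) := Fintype.ofFinite _
  let T : orbit G a → orbit G a := fun x => ⟨x.1 * coeFn N w, hmem _ x.2⟩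
  have hT : ∀ (k : ℕ) (x : orbit G a), (T^[k] x).1 = x.1 * coeFn N (w ^ k) := by
    intro k
    induction k with
    | zero => intro x; rw [Function.iterate_zero_apply, coeFn_pow, pow_zero, mul_one]
    | succ k ih =>
      intro x
      rw [Function.iterate_succ_apply', coeFn_pow, pow_succ, ← coeFn_pow, ← mul_assoc, ← ih x]

  have hinj : Function.Injective T := fun x y h => by
    have h1 := congrArg Subtype.val h
    refine Subtype.ext (funext fun n => ?_)
    exact mul_right_cancel₀ (Units.ne_zero (w n)) (congrFun h1 n)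
  let σ : Equiv.Perm (orbit G a) := Equiv.ofBijective T (Finite.injective_iff_bijective.mp hinj)
  have hσ : σ ^ p ^ 1 = 1 := by
    rw [pow_one]
    refine Equiv.ext fun x => Subtype.ext ?_
    rw [Equiv.Perm.coe_pow, Equiv.Perm.one_apply]
    exact (hT p x).trans (by rw [hw, coeFn_one, mul_one])
  have hcard : ¬ p ∣ Fintype.card (orbit G a) := by
    rw [Fintype.card_eq_nat_card, Nat.card_coe_set_eq, ← index_stabilizer]
    exact hpa
  obtain ⟨x, hx⟩ := Equiv.Perm.exists_fixed_point_of_prime hcard hσ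
  exact ⟨x.1, x.2, congrArg Subtype.val hx⟩

end Cfsg.Agent.BC86.RelGraph
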