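import Cfsg.Prelude.Def_DegreeGraph
import Cfsg.Agent.BC86.RelGraph.Det
import Cfsg.Agent.BC86.RelGraph.Orbit
import Cfsg.Agent.CharB.CliffordDegree

/-!
# Degrees over a character of a normal subgroup
-/

set_option autoImplicit false
set_option linter.unusedSectionVars false

open MulAction Cfsg.Agent.CharDeep.Ext

namespace Cfsg.Agent.BC86.RelGraph

universe u

variable {G : Type u} [Group G] [Finite G] (N : Subgroup G) [hN : N.Normal]

attribute [local instance] fnAction

/-- `χ` lies over `θ`. -/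
def Over [Fintype N] (χ : Cfsg.IrrCharacter G) (θ : N → ℂ) : Prop :=
  Cfsg.classInner (fun n : N => (χ : G → ℂ) n) θ ≠ 0

variable [Fintype N]

theorem exists_over_irr {θ : N → ℂ} (hθ : Cfsg.IsIrrCharacter N θ) :
    ∃ χ : Cfsg.IrrCharacter G, Over N χ θ := by
  have := Fintype.ofFinite G
  obtain ⟨χ, hχ⟩ := CharCore.exists_over N ⟨θ, hθ⟩
  exact ⟨χ, hχ⟩

theorem mem_rel_of_over {χ : Cfsg.IrrCharacter G} {θ : N → ℂ} (hθ : Cfsg.IsIrrCharacter N θ)
    (h1 : θ ≠ 1) (h : Over N χ θ) :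
    Cfsg.charDegree (χ : G → ℂ) ∈ Cfsg.relCharDegrees N := by
  refine ⟨χ, ?_, rfl⟩
  by_contra hc
  push Not at hc
  refine h ?_
  rw [show (fun n : N => (χ : G → ℂ) n) = (χ : G → ℂ) 1 • (1 : N → ℂ) from
    funext fun n => by simp [hc n n.2], CharCore.classInner_smul_left,
    CharCore.classInner_irr_of_ne (χ := (⟨1, CharCore.isIrrCharacter_one⟩ : Cfsg.IrrCharacter N))
      (ψ := ⟨θ, hθ⟩) (fun e => h1 (congrArg Subtype.val e).symm), mul_zero]

theorem exists_constituent_ne_one {χ : Cfsg.IrrCharacter G}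
    (h : ∃ x ∈ N, (χ : G → ℂ) x ≠ (χ : G → ℂ) 1) :
    ∃ θ : N → ℂ, Cfsg.IsIrrCharacter N θ ∧ θ ≠ 1 ∧ Over N χ θ := by
  by_contra hc
  push Not at hc
  obtain ⟨x, hx, hne⟩ := h
  apply hne
  have hres := CharCore.isCharacter_restrict (CharCore.irr_isCharacter χ) N
  have h0 : ∀ θ : Cfsg.IrrCharacter N, (θ : N → ℂ) ≠ 1 →
      Cfsg.classInner (fun n : N => (χ : G → ℂ) n) θ = 0 := fun θ hθ => by
    by_contra hne
    exact hc θ θ.2 hθ hne
  have he := CharCore.IsCharacter.eq_sum_classInner hres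
  let one' : Cfsg.IrrCharacter N := ⟨1, CharCore.isIrrCharacter_one⟩
  rw [Finset.sum_eq_single one' (fun θ _ hθ => by rw [h0 θ fun e => hθ (Subtype.ext e), zero_smul])
    (fun hh => absurd (Finset.mem_univ one') hh)] at he
  have h1 := congrFun he ⟨x, hx⟩
  have h2 := congrFun he 1
  simp only [Pi.smul_apply, one', Pi.one_apply, OneMemClass.coe_one] at h1 h2
  rw [h1, h2]

theorem le_stabilizer {θ : N → ℂ} (hθ : Cfsg.IsIrrCharacter N θ) : N ≤ stabilizer G θ := by
  rw [stabilizer_eq_inertia]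
  exact le_inertia N (CharCore.IsCharacter.isClassFunction (CharCore.IsIrrCharacter.isCharacter hθ))

/-- Clifford data over a constituent. -/
theorem clifford_data {T : Subgroup G} {θ : N → ℂ} (hθ : Cfsg.IsIrrCharacter N θ)
    (hT : stabilizer G θ = T) {χ : Cfsg.IrrCharacter G} (h : Over N χ θ) {d : ℕ} (hd : θ 1 = d) :
    ∃ (hNT : N ≤ T) (e : ℕ) (ψ : T → ℂ), 0 < e ∧ Cfsg.IsIrrCharacter T ψ ∧
      Cfsg.charDegree (χ : G → ℂ) = T.index * (e * d) ∧
      (fun n : N => ψ (Subgroup.inclusion hNT n)) = fun n => (e : ℂ) * θ n := by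
  classical
  subst hT
  have := Fintype.ofFinite G
  have := Fintype.ofFinite (stabilizer G θ)
  have hNT : N ≤ stabilizer G θ := le_stabilizer N hθ
  have hmem : ∀ g : G, g ∈ stabilizer G θ ↔
      ∀ n : N, θ ⟨g * n * g⁻¹, hN.conj_mem (n : G) n.2 g⟩ = θ n := fun g => by
    rw [stabilizer_eq_inertia]
    exact funext_iff
  obtain ⟨ψ, hψ, hind, hinner⟩ := exists_inertia_induced N hθ _ hmem hNT χ.2 h
  set i := Subgroup.subgroupOfEquivOfLe hNT
  have := Fintype.ofFinite (N.subgroupOf (stabilizer G θ))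
  have hθ' : Cfsg.IsIrrCharacter (N.subgroupOf (stabilizer G θ)) (fun x => θ (i x)) :=
    CharCore.isIrrCharacter_comp_surjective hθ i.toMonoidHom i.surjective
  have hinv' : Inv (N.subgroupOf (stabilizer G θ)) (fun x => θ (i x)) := fun g n =>
    (hmem g).mp g.2 (i n)
  have hcon' : Cfsg.classInner (fun n : N.subgroupOf (stabilizer G θ) => ψ n) (fun x => θ (i x))
      = Cfsg.classInner (fun n : N => (χ : G → ℂ) n) θ := by
    rw [← hinner, Cfsg.classInner, Cfsg.classInner, Nat.card_congr i.toEquiv]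
    congr 1
    exact Fintype.sum_equiv i.toEquiv _ _ fun x => rfl
  obtain ⟨e, he⟩ := CharCore.IsCharacter.exists_classInner_irr_eq_natCast
    (CharCore.isCharacter_restrict (CharCore.irr_isCharacter χ) N) ⟨θ, hθ⟩
  have he : Cfsg.classInner (fun n : N => (χ : G → ℂ) n) θ = (e : ℂ) := he
  have hres := restrict_eq_smul _ hinv' hθ' hψ (by rw [hcon']; exact h)
  rw [hcon', he] at hres
  have hfun : (fun n : N => ψ (Subgroup.inclusion hNT n)) = fun n => (e : ℂ) * θ n := funext fun n =>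
    congrFun hres (i.symm n)
  refine ⟨hNT, e, ψ, Nat.pos_of_ne_zero fun h0 => h (by rw [he, h0, Nat.cast_zero]), hψ, ?_, hfun⟩
  apply CharDeep.Deg.degree_of_eq
  have h1 := congrFun hind 1
  rw [CharInd.indFun_apply_one] at h1
  have h2 := congrFun hfun 1
  rw [map_one] at h2
  rw [← h1, h2, hd]
  push_cast
  rfl

theorem dvd_of_over {θ : N → ℂ} (hθ : Cfsg.IsIrrCharacter N θ) {χ : Cfsg.IrrCharacter G}
    (h : Over N χ θ) {d : ℕ} (hd : θ 1 = d) :
    (stabilizer G θ).index * d ∣ Cfsg.charDegree (χ : G → ℂ) := by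
  obtain ⟨-, e, -, -, -, hdeg, -⟩ := clifford_data N hθ rfl h hd
  exact ⟨e, by rw [hdeg]; ring⟩

theorem detHom_coeFn (φ : N →* ℂˣ) : detHom (coeFn N φ) = φ := by
  have h := detHom_hom_mul φ (χ := fun _ : N => (1 : ℂ)) CharCore.isCharacter_one (d := 1) (by simp)
  have h1 : detHom (fun _ : N => (1 : ℂ)) = 1 :=
    (detHom_comp (χ := fun _ : N => (1 : ℂ)) CharCore.isCharacter_one (1 : N →* N)).trans
      (MonoidHom.ext fun n => by simp)
  rw [h1] at h
  rw [show coeFn N φ = fun n => (φ n : ℂ) * 1 from funext fun n => (mul_one _).symm, h]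
  exact MonoidHom.ext fun n => by simp

/-- An invariant linear character of `N ≤ G'` has order dividing each degree over it. -/
theorem pow_degree_eq_one (hNG : N ≤ commutator G) {φ : N →* ℂˣ} (hφ : ∀ g : G, conjLin N g φ = φ)
    {χ : Cfsg.IrrCharacter G} (h : Over N χ (coeFn N φ)) :
    φ ^ Cfsg.charDegree (χ : G → ℂ) = 1 := by
  have hT : stabilizer G (coeFn N φ) = ⊤ :=
    (Subgroup.eq_top_iff' _).mpr fun g => (stabilizer_coeFn N φ).mpr (hφ g)
  obtain ⟨hNT, e, ψ, -, hψ, hdeg, hfun⟩ :=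
    clifford_data N (CharCore.isIrrCharacter_hom φ) hT h (d := 1) (by simp [coeFn])
  have hdet := detHom_comp (CharCore.IsIrrCharacter.isCharacter hψ) (Subgroup.inclusion hNT)
  rw [hfun] at hdet
  change detHom (fun n => (e : ℂ) * coeFn N φ n) = _ at hdet
  rw [detHom_nsmul e (θ := coeFn N φ)
    (CharCore.IsIrrCharacter.isCharacter (CharCore.isIrrCharacter_hom φ)), detHom_coeFn] at hdet
  have := pow_index_eq_one N hNG hNT (detHom ψ) (φ ^ e)
    (fun g n => by
      rw [MonoidHom.pow_apply, MonoidHom.pow_apply]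
      congr 1
      have h1 := DFunLike.congr_fun (hφ g⁻¹) n
      rw [← h1]
      exact congrArg φ (Subtype.ext (by simp [MulAut.conjNormal_apply])))
    (fun n => (DFunLike.congr_fun hdet n).symm)
  rw [hdeg]
  have hx : ∀ n, φ n ^ (1 * (e * 1)) = 1 := fun n => by
    have h2 := DFunLike.congr_fun this n
    rw [Subgroup.index_top, MonoidHom.pow_apply, MonoidHom.pow_apply, MonoidHom.one_apply] at h2
    simpa using h2
  exact MonoidHom.ext fun n => by rw [MonoidHom.pow_apply, MonoidHom.one_apply, Subgroup.index_top, hx n]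

/-- Twisting by an invariant linear character of prime order `p`: degrees become divisible by `p`. -/
theorem prime_dvd_of_twist (hNG : N ≤ commutator G) {l : N →* ℂˣ} (hl : ∀ g : G, conjLin N g l = l)
    {p : ℕ} (hp : p.Prime) (hlo : orderOf l = p) {θ : N → ℂ} (hθ : Cfsg.IsIrrCharacter N θ)
    {χ : Cfsg.IrrCharacter G} (hχ : Over N χ θ) (hpχ : ¬ p ∣ Cfsg.charDegree (χ : G → ℂ))
    {η : Cfsg.IrrCharacter G} (hη : Over N η (θ * coeFn N l)) :
    p ∣ Cfsg.charDegree (η : G → ℂ) := by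
  obtain ⟨d, -, hd⟩ := CharCore.IsIrrCharacter.exists_degree hθ
  have hfix : ∀ g : G, g • coeFn N l = coeFn N l := fun g => by rw [smul_coeFn, hl]
  have hcancel : ∀ f f' : N → ℂ, f * coeFn N l = f' * coeFn N l → f = f' := fun f f' h =>
    funext fun n => mul_right_cancel₀ (Units.ne_zero (l n)) (congrFun h n)
  have hstab : stabilizer G (θ * coeFn N l) = stabilizer G θ := by
    ext g
    rw [mem_stabilizer_iff, mem_stabilizer_iff, smul_fn_mul, hfix]
    exact ⟨hcancel _ _, fun h => by rw [h]⟩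
  have hθl : Cfsg.IsIrrCharacter N (θ * coeFn N l) := by
    rw [mul_comm]
    exact CharCore.isIrrCharacter_hom_mul l hθ
  obtain ⟨hNT, e, ψ, -, hψ, hdeg, hfun⟩ := clifford_data N hθ rfl hχ hd
  obtain ⟨hNT', f, ψ', -, hψ', hdeg', hfun'⟩ := clifford_data N hθl hstab hη (d := d)
    (by rw [Pi.mul_apply, hd]; simp [coeFn])
  have hθc := CharCore.IsIrrCharacter.isCharacter hθ
  have hA := detHom_comp (CharCore.IsIrrCharacter.isCharacter hψ) (Subgroup.inclusion hNT)
  have hB := detHom_comp (CharCore.IsIrrCharacter.isCharacter hψ') (Subgroup.inclusion hNT)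
  rw [hfun, detHom_nsmul e hθc] at hA
  rw [hfun', show (fun n : N => (f : ℂ) * (θ * coeFn N l) n) = fun n => (l n : ℂ) * ((f : ℂ) * θ n)
    from funext fun n => by rw [Pi.mul_apply]; simp only [coeFn]; ring] at hB
  rw [detHom_hom_mul l (χ := fun n : N => (f : ℂ) * θ n) (CharCore.isCharacter_natCast_smul hθc f)
    (d := f * d) (by rw [hd]; push_cast; rfl), detHom_nsmul f hθc] at hB
  have hν : ∀ n : N, (detHom ψ' ^ e / detHom ψ ^ f) ⟨n, hNT n.2⟩ = (l ^ (f * d * e)) n := by
    intro n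
    have a1 := DFunLike.congr_fun hA n
    have b1 := DFunLike.congr_fun hB n
    simp only [MonoidHom.mul_apply, MonoidHom.pow_apply, MonoidHom.comp_apply] at a1 b1
    rw [MonoidHom.div_apply, MonoidHom.pow_apply, MonoidHom.pow_apply, MonoidHom.pow_apply]
    change (detHom ψ') (Subgroup.inclusion hNT n) ^ e / (detHom ψ) (Subgroup.inclusion hNT n) ^ f = _
    rw [← a1, ← b1, mul_pow, ← pow_mul, ← pow_mul, mul_div_assoc, mul_comm f e, ← pow_mul,
      div_self', mul_one, mul_assoc]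
  have hone := pow_index_eq_one N hNG hNT (detHom ψ' ^ e / detHom ψ ^ f) (l ^ (f * d * e))
    (fun g n => by
      rw [MonoidHom.pow_apply, MonoidHom.pow_apply]
      congr 1
      have h1 := DFunLike.congr_fun (hl g⁻¹) n
      rw [← h1]
      exact congrArg l (Subtype.ext (by simp [MulAut.conjNormal_apply]))) hν
  have hall : ∀ n, l n ^ (f * d * e * (stabilizer G θ).index) = 1 := fun n => by
    have h2 := DFunLike.congr_fun hone n
    rwa [MonoidHom.pow_apply, MonoidHom.pow_apply, ← pow_mul, MonoidHom.one_apply] at h2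
  have hdvd : p ∣ f * d * e * (stabilizer G θ).index :=
    hlo ▸ orderOf_dvd_of_pow_eq_one (MonoidHom.ext fun n => by
      rw [MonoidHom.pow_apply, MonoidHom.one_apply, hall n])
  have hnot : ¬ p ∣ d * e * (stabilizer G θ).index := fun h => hpχ (by
    rw [hdeg]; exact h.trans (dvd_of_eq (by ring)))
  rw [show f * d * e * (stabilizer G θ).index = f * (d * e * (stabilizer G θ).index) by ring] at hdvd
  rw [hdeg']
  exact ((hp.dvd_mul.mp hdvd).resolve_right hnot).trans (dvd_mul_of_dvd_right (dvd_mul_right f d) _)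

end Cfsg.Agent.BC86.RelGraph
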