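import Cfsg.Agent.BC86.RelGraph.Main

/-!
# A disconnected relative degree graph: a clique and a component of diameter at most two
-/

set_option autoImplicit false
set_option linter.unusedSectionVars false

open MulAction Cfsg.Agent.CharDeep.Ext

namespace Cfsg.Agent.BC86.RelGraph

universe u

variable {G : Type u} [Group G] [Finite G] (N : Subgroup G) [hN : N.Normal] [Fintype N]

attribute [local instance] fnAction

local notation "Γ" => Cfsg.commonDivisorGraph.induce (Cfsg.relCharDegrees N)

theorem adj_of_not_coprime {a b : ↥(Cfsg.relCharDegrees N)} (hab : a ≠ b)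
    (h : ¬ Nat.Coprime a.1 b.1) : (Γ).Adj a b := by
  refine ⟨fun e => hab (Subtype.ext e), ?_⟩
  have hpos : 0 < Nat.gcd a.1 b.1 := Nat.gcd_pos_of_pos_left _ (pos_of_mem N a.2)
  rw [Nat.coprime_iff_gcd_eq_one] at h
  change 1 < Nat.gcd a.1 b.1
  omega

/-- Every prime dividing the number of linear characters divides `|N : N'|`. -/
theorem dvd_relIndex_of_orderOf {μ : N →* ℂˣ} : orderOf μ ∣ ⁅N, N⁆.relIndex N := by
  haveI : Finite (N →* ℂˣ) := Finite.of_equiv _ CharCore.linearEquivHom.symm
  have h := orderOf_dvd_natCard μ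
  rw [Nat.card_congr CharCore.linearEquivHom, CharCore.card_linearCharacters] at h
  have he : (⁅N, N⁆).subgroupOf N = commutator N := by
    rw [← Subgroup.map_subtype_commutator N, Subgroup.subgroupOf,
      Subgroup.comap_map_eq_self_of_injective N.subtype_injective]
  rw [← he] at h
  exact h

/-- A normal subgroup of `π`-index (`π` the primes of `|N : N'|`) all of whose nontrivial linear
characters of prime order are moved by `N`, unless it is trivial. -/
theorem exists_moved [Group.IsSolvable N] :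
    ∃ (L : Subgroup N) (_ : L.Normal),
      (∀ r : ℕ, r.Prime → r ∣ L.index → r ∣ ⁅N, N⁆.relIndex N) ∧
        (L = ⊥ ∨ ∃ (q : ℕ) (ν : L →* ℂˣ) (g : N), q.Prime ∧ orderOf ν = q ∧
          conjLin L g ν ≠ ν) := by
  classical
  have hex : ∃ k : ℕ, ∃ L : Subgroup N, L.Normal ∧
      (∀ r : ℕ, r.Prime → r ∣ L.index → r ∣ ⁅N, N⁆.relIndex N) ∧ Nat.card L = k :=
    ⟨_, ⊤, inferInstance, fun r hr h => absurd (Nat.dvd_one.mp (Subgroup.index_top (G := N) ▸ h))
      hr.ne_one, rfl⟩
  obtain ⟨L, hLn, hLi, hLc⟩ := Nat.find_spec hex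
  refine ⟨L, hLn, hLi, ?_⟩
  by_cases hbot : L = ⊥
  · exact .inl hbot
  refine .inr ?_
  haveI : Nontrivial L := (Subgroup.nontrivial_iff_ne_bot L).mpr hbot
  have hne : Nat.card (L →* ℂˣ) ≠ 1 := by
    rw [Nat.card_congr CharCore.linearEquivHom, CharCore.card_linearCharacters, ne_eq,
      Subgroup.index_eq_one]
    exact (Group.IsSolvable.commutator_lt_top_of_nontrivial L).ne
  haveI : Finite (L →* ℂˣ) := Finite.of_equiv _ CharCore.linearEquivHom.symm
  obtain ⟨q, hq, hqd⟩ := Nat.exists_prime_and_dvd hne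
  haveI := Fact.mk hq
  obtain ⟨ν, hν⟩ := exists_prime_orderOf_dvd_card' q hqd
  refine ⟨q, ν, ?_⟩
  by_contra hc
  push Not at hc
  have hinv : ∀ g : N, conjLin L g ν = ν := fun g => hc g hq hν
  have hconj : ∀ (g : N) (n : L), ν ⟨g * n * g⁻¹, hLn.conj_mem (n : N) n.2 g⟩ = ν n := fun g n => by
    have h1 := DFunLike.congr_fun (hinv g⁻¹) n
    rw [← h1]
    exact congrArg ν (Subtype.ext (by simp [MulAut.conjNormal_apply]))
  by_cases hqN : q ∣ ⁅N, N⁆.relIndex N
  · -- the kernel is a smaller subgroup of `π`-index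
    let K : Subgroup N := ν.ker.map L.subtype
    have hKn : K.Normal := by
      refine ⟨?_⟩
      rintro _ ⟨x, hx, rfl⟩ g
      refine ⟨⟨g * x * g⁻¹, hLn.conj_mem (x : N) x.2 g⟩, ?_, rfl⟩
      show ν _ = 1
      rw [hconj g x]
      exact hx
    have hrel : ∃ j : ℕ, ν.ker.index ∣ q ^ j := by
      have hexp : ∀ y : ν.range, y ^ q = 1 := by
        rintro ⟨_, x, rfl⟩
        refine Subtype.ext ?_
        show ν x ^ q = 1
        rw [← MonoidHom.pow_apply, ← hν, pow_orderOf_eq_one, MonoidHom.one_apply]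
      haveI : Finite ν.range := Finite.of_surjective _ ν.rangeRestrict_surjective
      obtain ⟨j, hj⟩ := IsPGroup.iff_card.mp (fun y => ⟨1, by rw [pow_one]; exact hexp y⟩ : IsPGroup q ν.range)
      exact ⟨j, by rw [Subgroup.index_ker, hj]⟩
    obtain ⟨j, hj⟩ := hrel
    have hidx : K.index = ν.ker.index * L.index := by
      rw [Subgroup.index_map_subtype]
    have hKlt : Nat.card K < Nat.card L := by
      rw [Nat.card_congr (Subgroup.equivMapOfInjective ν.ker L.subtype L.subtype_injective).toEquiv.symm]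
      have hlt : ν.ker ≠ ⊤ := fun h => hq.ne_one (by
        rw [← hν]
        exact orderOf_eq_one_iff.mpr (MonoidHom.ker_eq_top_iff.mp h))
      exact lt_of_le_of_ne (Subgroup.card_le_card_group _) fun h => hlt (Subgroup.eq_top_of_card_eq _ h)
    refine Nat.find_min hex (m := Nat.card K) (by rw [← hLc]; exact hKlt) ⟨K, hKn, fun r hr hd => ?_, rfl⟩
    rw [hidx] at hd
    rcases hr.dvd_mul.mp hd with h | h
    · have := (Nat.prime_dvd_prime_iff_eq hr hq).mp (hr.dvd_of_dvd_pow (h.trans hj))
      rw [this]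
      exact hqN
    · exact hLi r hr h
  · obtain ⟨μ, ⟨-, hμ⟩, -⟩ := exists_unique_extend_coprime L ν hconj (by
      rw [hν]
      exact ((hq.coprime_iff_not_dvd.mpr fun h => hqN (hLi q hq h))).symm)
    exact hqN (hν ▸ hμ ▸ dvd_relIndex_of_orderOf N)

variable [Group.IsSolvable N]

theorem exists_two_step (hNG : N ≤ commutator G) (hdisc : ¬ (Γ).Preconnected) :
    ∃ a₀ : ↥(Cfsg.relCharDegrees N),
      (∀ b c, (Γ).Reachable a₀ b → (Γ).Reachable a₀ c → b ≠ c → (Γ).Adj b c) ∧
      (∀ b c, ¬ (Γ).Reachable a₀ b → ¬ (Γ).Reachable a₀ c → b ≠ c → (Γ).Adj b c ∨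
        ∃ d, (Γ).Adj b d ∧ (Γ).Adj d c) := by
  classical
  obtain ⟨a, b, hab⟩ : ∃ a b, ¬ (Γ).Reachable a b := by
    by_contra h
    push Not at h
    exact hdisc h
  have hN' : ⁅N, N⁆ < N := by
    have hnt : Nontrivial N := by
      rw [Subgroup.nontrivial_iff_ne_bot]
      intro h
      obtain ⟨χ, ⟨x, hx, hne⟩, -⟩ := a.2
      rw [h, Subgroup.mem_bot] at hx
      exact hne (by rw [hx])
    rw [← Subgroup.map_subtype_commutator N]
    have h := Subgroup.map_lt_map_iff_of_injective (f := N.subtype) N.subtype_injective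
      |>.mpr (Group.IsSolvable.commutator_lt_top_of_nontrivial N)
    rwa [← MonoidHom.range_eq_map, Subgroup.range_subtype] at h
  wlog hside : ∀ r : ℕ, r.Prime → r ∣ ⁅N, N⁆.relIndex N → r ∣ a.1 generalizing a b with hsym
  · rcases disconnected_pair N hN' hNG hab with ⟨-, h⟩ | ⟨-, h⟩
    · exact hsym b a (fun h' => hab h'.symm) h
    · exact absurd h hside
  have hinv := eq_one_of_invariant N hNG hdisc
  have hne : ⁅N, N⁆.relIndex N ≠ 1 := fun h => absurd (Subgroup.relIndex_eq_one.mp h) hN'.not_ge
  obtain ⟨p, hp, hpN⟩ := Nat.exists_prime_and_dvd hne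
  refine ⟨a, fun x y hx hy hxy => ?_, fun x y hx hy hxy => ?_⟩
  · have key : ∀ z, (Γ).Reachable a z → p ∣ z.1 := by
      intro z hz
      rcases dvd_of_not_reachable N hNG (a := z) (b := b) (fun h => hab (hz.trans h)) hp hpN with h | h
      · exact h.1
      · exact absurd (reach_of_prime N hp (hside p hp hpN) h.1) hab
    exact adj_of_not_coprime N hxy fun h =>
      hp.ne_one (Nat.eq_one_of_dvd_coprimes h (key x hx) (key y hy))
  · -- reduce to the two-step relation
    suffices ¬ Nat.Coprime x.1 y.1 ∨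
        ∃ c : ↥(Cfsg.relCharDegrees N), ¬ Nat.Coprime x.1 c.1 ∧ ¬ Nat.Coprime c.1 y.1 by
      rcases this with h | ⟨c, h1, h2⟩
      · exact .inl (adj_of_not_coprime N hxy h)
      · by_cases hcx : c = x
        · exact .inl (adj_of_not_coprime N hxy (hcx ▸ h2))
        by_cases hcy : c = y
        · exact .inl (adj_of_not_coprime N hxy (hcy ▸ h1))
        exact .inr ⟨c, adj_of_not_coprime N (Ne.symm hcx) h1, adj_of_not_coprime N hcy h2⟩
    have hout : ∀ z, ¬ (Γ).Reachable a z → ∀ r : ℕ, r.Prime → r ∣ ⁅N, N⁆.relIndex N → ¬ r ∣ z.1 :=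
      fun z hz r hr hrN h => hz (reach_of_prime N hr (hside r hr hrN) h)
    obtain ⟨L, hLn, hLi, hL⟩ := exists_moved N
    -- each vertex is either a multiple of a base orbit size or has a nonlinear constituent
    have key : ∀ z : ↥(Cfsg.relCharDegrees N), ¬ (Γ).Reachable a z →
        (∃ (r : ℕ) (l : N →* ℂˣ), r.Prime ∧ r ∣ ⁅N, N⁆.relIndex N ∧ orderOf l = r ∧
          (stabilizer G (coeFn N l)).index ∣ z.1) ∨
        (∃ q : ℕ, q.Prime ∧ q ∣ z.1 ∧ (∃ (χ : Cfsg.IrrCharacter G) (θ : N → ℂ) (d : ℕ),
            Cfsg.charDegree (χ : G → ℂ) = z.1 ∧ Cfsg.IsIrrCharacter N θ ∧ Over N χ θ ∧ θ 1 = d ∧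
            d ≠ 1) ∧ ∀ z' : ↥(Cfsg.relCharDegrees N), ¬ (Γ).Reachable a z' →
          ∀ (χ : Cfsg.IrrCharacter G) (θ : N → ℂ) (d : ℕ), Cfsg.charDegree (χ : G → ℂ) = z'.1 →
            Cfsg.IsIrrCharacter N θ → Over N χ θ → θ 1 = d → d ≠ 1 → q ∣ z'.1) := by
      intro z hz
      obtain ⟨χ, hker, hχz⟩ := id z.2
      obtain ⟨θ, hθ, hθ1, hover⟩ := exists_constituent_ne_one N hker
      obtain ⟨d, -, hd⟩ := CharCore.IsIrrCharacter.exists_degree hθ
      by_cases hd1 : d = 1
      · left
        obtain ⟨φ, rfl⟩ := CharCore.IsCharacter.exists_hom_of_degree_one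
          (CharCore.IsIrrCharacter.isCharacter hθ) (by rw [hd, hd1, Nat.cast_one])
        have hφ1 : φ ≠ 1 := fun h => hθ1 (by rw [h]; rfl)
        obtain ⟨r, hr, hrd⟩ := Nat.exists_prime_and_dvd (fun h => hφ1 (eq_one_of_orderOf N h))
        haveI : Finite (N →* ℂˣ) := Finite.of_equiv _ CharCore.linearEquivHom.symm
        refine ⟨r, φ ^ (orderOf φ / r), hr, hrd.trans (dvd_relIndex_of_orderOf N),
          orderOf_pow_orderOf_div (orderOf_pos φ).ne' hrd, ?_⟩
        refine (Subgroup.index_dvd_of_le fun g hg => ?_).trans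
          ((dvd_mul_right _ d).trans (hχz ▸ dvd_of_over N hθ hover hd))
        rw [stabilizer_coeFn, conjLin_pow, (stabilizer_coeFn N φ).mp hg]
      · right
        haveI : Fintype L := Fintype.ofFinite L
        -- the restriction to `L` of a constituent of `π'`-degree
        have hres : ∀ z' : ↥(Cfsg.relCharDegrees N), ¬ (Γ).Reachable a z' →
            ∀ (χ : Cfsg.IrrCharacter G) (θ : N → ℂ) (d : ℕ), Cfsg.charDegree (χ : G → ℂ) = z'.1 →
              Cfsg.IsIrrCharacter N θ → Over N χ θ → θ 1 = d →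
              ∃ θ₀ : L → ℂ, Cfsg.IsIrrCharacter L θ₀ ∧ θ₀ 1 = d ∧ stabilizer N θ₀ = ⊤ := by
          intro z' hz' χ θ d hχ hθ hover hd
          have hdz : d ∣ z'.1 := (dvd_mul_left d _).trans (hχ ▸ dvd_of_over N hθ hover hd)
          obtain ⟨θ₀, hθ₀⟩ := CharDeep.Deg.exists_constituent
            (CharCore.isCharacter_restrict (CharCore.IsIrrCharacter.isCharacter hθ) L)
            (by show θ ((1 : L) : N) ≠ 0
                rw [OneMemClass.coe_one]
                exact CharCore.irr_apply_one_ne_zero ⟨θ, hθ⟩)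
          obtain ⟨d₀, -, hd₀⟩ := CharCore.IsIrrCharacter.exists_degree θ₀.2
          haveI : Fintype N := Fintype.ofFinite N
          obtain ⟨h0, hdiv⟩ := CharB.degree_dvd L hθ θ₀.2 hθ₀ hd hd₀
          have hq : d / d₀ = 1 := by
            by_contra hne
            obtain ⟨r, hr, hrd⟩ := Nat.exists_prime_and_dvd hne
            exact hout z' hz' r hr (hLi r hr (hrd.trans hdiv))
              ((hrd.trans (Nat.div_dvd_of_dvd h0)).trans hdz)
          have hdd : d = d₀ := by
            rw [← Nat.div_mul_cancel h0, hq, one_mul]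
          have h1 := dvd_of_over L θ₀.2 (χ := ⟨θ, hθ⟩) hθ₀ hd₀
          rw [CharDeep.Deg.degree_of_eq hd, ← hdd] at h1
          refine ⟨θ₀, θ₀.2, hdd ▸ hd₀, Subgroup.index_eq_one.mp (Nat.eq_one_of_dvd_one ?_)⟩
          have hdpos : 0 < d := by
            have := CharDeep.Deg.degree_pos (⟨θ, hθ⟩ : Cfsg.IrrCharacter N)
            rwa [CharDeep.Deg.degree_of_eq hd] at this
          exact Nat.dvd_of_mul_dvd_mul_right hdpos (by rwa [one_mul])
        rcases hL with rfl | ⟨q, ν, g, hq, hνo, hνg⟩
        · exfalso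
          obtain ⟨θ₀, hθ₀, hθ₀1, -⟩ := hres z hz χ θ d hχz hθ hover hd
          obtain ⟨f, hf⟩ : ∃ f : (⊥ : Subgroup N) →* ℂˣ, θ₀ = fun x => (f x : ℂ) := by
            refine CharCore.IsCharacter.exists_hom_of_degree_one
              (CharCore.IsIrrCharacter.isCharacter hθ₀) ?_
            have := CharDeep.Deg.degree_dvd_index (⟨θ₀, hθ₀⟩ : Cfsg.IrrCharacter (⊥ : Subgroup N)) ⊤
              (fun x _ y _ => Subsingleton.elim _ _)
            rw [Subgroup.index_top, Nat.dvd_one, CharDeep.Deg.degree_of_eq hθ₀1] at this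
            rw [hθ₀1, this, Nat.cast_one]
          apply hd1
          have : ((d : ℕ) : ℂ) = 1 := by rw [← hθ₀1, hf]; simp
          exact_mod_cast this
        · have main : ∀ z' : ↥(Cfsg.relCharDegrees N), ¬ (Γ).Reachable a z' →
              ∀ (χ : Cfsg.IrrCharacter G) (θ : N → ℂ) (d : ℕ), Cfsg.charDegree (χ : G → ℂ) = z'.1 →
                Cfsg.IsIrrCharacter N θ → Over N χ θ → θ 1 = d → d ≠ 1 → q ∣ z'.1 := by
            intro z' hz' χ θ d hχ hθ hover hd hd1
            have hdz : d ∣ z'.1 := (dvd_mul_left d _).trans (hχ ▸ dvd_of_over N hθ hover hd)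
            obtain ⟨θ₀, hθ₀, hθ₀1, htop⟩ := hres z' hz' χ θ d hχ hθ hover hd
            have hμ : Cfsg.IsIrrCharacter L (θ₀ * coeFn L ν) := by
              rw [mul_comm]
              exact CharCore.isIrrCharacter_hom_mul ν hθ₀
            have hμ1 : (θ₀ * coeFn L ν) 1 = (d : ℂ) := by rw [Pi.mul_apply, hθ₀1]; simp [coeFn]
            by_cases hm : (stabilizer N (θ₀ * coeFn L ν)).index = 1
            · have hgs : g • (θ₀ * coeFn L ν) = θ₀ * coeFn L ν := mem_stabilizer_iff.mp (by
                rw [Subgroup.index_eq_one.mp hm]; trivial)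
              rw [smul_fn_mul, mem_stabilizer_iff.mp (show g ∈ stabilizer N θ₀ by rw [htop]; trivial),
                smul_coeFn] at hgs
              set w := conjLin L g ν / ν with hw
              have hwfix : (fun n => (w n : ℂ) * θ₀ n) = θ₀ := funext fun n => by
                have h1 := congrFun hgs n
                simp only [Pi.mul_apply, coeFn] at h1
                rw [hw, MonoidHom.div_apply, Units.val_div_eq_div_val, div_mul_eq_mul_div,
                  mul_comm, h1, mul_div_cancel_right₀ _ (Units.ne_zero _)]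
              have hdet := detHom_hom_mul w (CharCore.IsIrrCharacter.isCharacter hθ₀) hθ₀1
              rw [hwfix] at hdet
              have hwd : w ^ d = 1 := MonoidHom.ext fun n => by
                have := DFunLike.congr_fun hdet n
                rw [MonoidHom.mul_apply] at this
                exact mul_eq_right.mp this.symm
              have hwq : w ^ q = 1 := MonoidHom.ext fun n => by
                have e : ∀ m, ν m ^ q = 1 := fun m =>
                  DFunLike.congr_fun (hνo ▸ pow_orderOf_eq_one ν : ν ^ q = 1) m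
                rw [MonoidHom.pow_apply, hw, MonoidHom.div_apply, div_pow, e, MonoidHom.one_apply]
                rw [show (conjLin L g ν) n ^ q = 1 from e _, div_one]
              by_contra hqz
              refine hνg (MonoidHom.ext fun n => ?_)
              have hco : Nat.Coprime q d := hq.coprime_iff_not_dvd.mpr fun h => hqz (h.trans hdz)
              have h1 : w n ^ Nat.gcd q d = 1 := pow_gcd_eq_one.mpr
                ⟨by rw [← MonoidHom.pow_apply, hwq, MonoidHom.one_apply],
                  by rw [← MonoidHom.pow_apply, hwd, MonoidHom.one_apply]⟩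
              rw [hco.gcd_eq_one, pow_one, hw, MonoidHom.div_apply, div_eq_one] at h1
              exact h1
            · exfalso
              obtain ⟨η, hη⟩ := exists_over_irr L hμ
              have h1 := dvd_of_over L hμ hη hμ1
              obtain ⟨η', hη'⟩ := exists_over_irr N η.2
              obtain ⟨e, -, he⟩ := CharCore.IsIrrCharacter.exists_degree η.2
              rw [CharDeep.Deg.degree_of_eq he] at h1
              have hne1 : (η : N → ℂ) ≠ 1 := fun hh => by
                have : e = 1 := by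
                  have h2 : (e : ℂ) = 1 := by rw [← he, hh]; rfl
                  exact_mod_cast h2
                rw [this, Nat.dvd_one] at h1
                exact hm (Nat.eq_one_of_mul_eq_one_right h1)
              let v : ↥(Cfsg.relCharDegrees N) := ⟨_, mem_rel_of_over N η.2 hne1 hη'⟩
              have hv : e ∣ v.1 := (dvd_mul_left e _).trans (dvd_of_over N η.2 hη' he)
              obtain ⟨r, hr, hrm⟩ := Nat.exists_prime_and_dvd hm
              have hrN : r ∣ ⁅N, N⁆.relIndex N := hLi r hr (hrm.trans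
                (Subgroup.index_dvd_of_le (le_stabilizer L hμ)))
              refine hz' ((reach_of_prime N hr (hside r hr hrN)
                (show r ∣ v.1 from (hrm.trans ((dvd_mul_right _ d).trans h1)).trans hv)).trans ?_)
              exact reach_of_not_coprime N (fun h => hd1 ((Nat.coprime_self d).mp h))
                (((dvd_mul_left d _).trans h1).trans hv) hdz
          exact ⟨q, hq, main z hz χ θ d hχz hθ hover hd hd1, ⟨χ, θ, d, hχz, hθ, hover, hd, hd1⟩, main⟩
    rcases key y hy with ⟨r, l, hr, hrN, hlo, hdvd⟩ | ⟨q, hq, hqy, -, hqall⟩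
    · have hl1 : l ≠ 1 := fun h => hr.ne_one (by rw [← hlo, h, orderOf_one])
      exact star_two N hinv hr hlo (fun h => hout y hy r hr hrN (h.trans hdvd))
        (fun h => hl1 (hinv l fun g => (stabilizer_coeFn N l).mp (by
          rw [Subgroup.index_eq_one.mp h]; trivial))) x y (hout x hx r hr hrN) hdvd
    · rcases key x hx with ⟨r, l, hr, hrN, hlo, hdvd⟩ | ⟨q', hq', -, ⟨χ, θ, d, hχ, hθ, hover, hd, hd1⟩, -⟩
      · have hl1 : l ≠ 1 := fun h => hr.ne_one (by rw [← hlo, h, orderOf_one])
        rcases star_two N hinv hr hlo (fun h => hout x hx r hr hrN (h.trans hdvd))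
          (fun h => hl1 (hinv l fun g => (stabilizer_coeFn N l).mp (by
            rw [Subgroup.index_eq_one.mp h]; trivial))) y x (hout y hy r hr hrN) hdvd with h | ⟨c, h1, h2⟩
        · exact .inl fun hc => h hc.symm
        · exact .inr ⟨c, fun hc => h2 hc.symm, fun hc => h1 hc.symm⟩
      · exact .inl fun h => hq.ne_one
          (Nat.eq_one_of_dvd_coprimes h (hqall x hx χ θ d hχ hθ hover hd hd1) hqy)

end Cfsg.Agent.BC86.RelGraph
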