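import Cfsg.Agent.BC86.RelGraph.Degrees
import Mathlib.Combinatorics.SimpleGraph.Connectivity.Connected

/-!
# The common-divisor graph of the relative degree set has at most two components
-/

set_option autoImplicit false
set_option linter.unusedSectionVars false

open MulAction Cfsg.Agent.CharDeep.Ext

namespace Cfsg.Agent.BC86.RelGraph

universe u

variable {G : Type u} [Group G] [Finite G] (N : Subgroup G) [hN : N.Normal] [Fintype N]

attribute [local instance] fnAction

local notation "Γ" => Cfsg.commonDivisorGraph.induce (Cfsg.relCharDegrees N)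
local notation "deg" => fun χ => Cfsg.charDegree (χ : G → ℂ)

theorem pos_of_mem {a : ℕ} (ha : a ∈ Cfsg.relCharDegrees N) : 0 < a := by
  obtain ⟨χ, -, rfl⟩ := ha
  exact CharDeep.Deg.degree_pos χ

theorem reach_of_not_coprime {a b : ↥(Cfsg.relCharDegrees N)} {x y : ℕ} (h : ¬ Nat.Coprime x y)
    (hx : x ∣ a.1) (hy : y ∣ b.1) : (Γ).Reachable a b := by
  by_cases hab : a = b
  · subst hab; rfl
  refine SimpleGraph.Adj.reachable ⟨fun h => hab (Subtype.ext h), ?_⟩
  have hpos : 0 < Nat.gcd a.1 b.1 := Nat.gcd_pos_of_pos_left _ (pos_of_mem N a.2)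
  have hne : ¬ Nat.Coprime a.1 b.1 := fun hc =>
    h ((hc.coprime_dvd_left hx).coprime_dvd_right hy)
  change 1 < Nat.gcd a.1 b.1
  rw [Nat.coprime_iff_gcd_eq_one] at hne
  omega

theorem reach_of_prime {a b : ↥(Cfsg.relCharDegrees N)} {p : ℕ} (hp : p.Prime)
    (ha : p ∣ a.1) (hb : p ∣ b.1) : (Γ).Reachable a b :=
  reach_of_not_coprime N (fun h => hp.ne_one ((Nat.coprime_self p).mp h)) ha hb

theorem coeFn_ne_one {φ : N →* ℂˣ} (h : φ ≠ 1) : coeFn N φ ≠ 1 := fun e =>
  h (coeFn_injective N (e.trans (coeFn_one N).symm))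

theorem conjLin_pow (g : G) (φ : N →* ℂˣ) (k : ℕ) :
    conjLin N g (φ ^ k) = conjLin N g φ ^ k := MonoidHom.ext fun _ => rfl

theorem conjLin_inv (g : G) (φ : N →* ℂˣ) : conjLin N g φ⁻¹ = (conjLin N g φ)⁻¹ :=
  MonoidHom.ext fun _ => rfl

theorem eq_one_of_orderOf {φ : N →* ℂˣ} (h : orderOf φ = 1) : φ = 1 :=
  MonoidHom.ext fun n => by
    have h1 := pow_orderOf_eq_one φ
    rw [h] at h1
    have h2 := DFunLike.congr_fun h1 n
    rwa [MonoidHom.pow_apply, pow_one] at h2

/-- An invariant linear character of prime order makes the graph connected. -/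
theorem preconnected_of_invariant (hNG : N ≤ commutator G) {l : N →* ℂˣ}
    (hl : ∀ g : G, conjLin N g l = l) {p : ℕ} (hp : p.Prime) (hlo : orderOf l = p) :
    (Γ).Preconnected := by
  have hl1 : l ≠ 1 := fun h => hp.ne_one (by rw [← hlo, h, orderOf_one])
  have key : ∀ a : ↥(Cfsg.relCharDegrees N), ∃ b : ↥(Cfsg.relCharDegrees N),
      p ∣ b.1 ∧ (Γ).Reachable a b := by
    rintro ⟨a, ha⟩
    by_cases hpa : p ∣ a
    · exact ⟨⟨a, ha⟩, hpa, SimpleGraph.Reachable.refl _⟩
    have ha' := ha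
    obtain ⟨χ, hker, rfl⟩ := ha'
    obtain ⟨θ, hθ, hθ1, hover⟩ := exists_constituent_ne_one N hker
    obtain ⟨d, -, hd⟩ := CharCore.IsIrrCharacter.exists_degree hθ
    have hμ : Cfsg.IsIrrCharacter N (θ * coeFn N l) := by
      rw [mul_comm]
      exact CharCore.isIrrCharacter_hom_mul l hθ
    obtain ⟨η, hη⟩ := exists_over_irr N hμ
    have hpη := prime_dvd_of_twist N hNG hl hp hlo hθ hover hpa hη
    have hμ1 : (θ * coeFn N l) 1 = (d : ℂ) := by rw [Pi.mul_apply, hd]; simp [coeFn]
    have hstab : stabilizer G (θ * coeFn N l) = stabilizer G θ := by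
      have hfix : ∀ g : G, g • coeFn N l = coeFn N l := fun g => by rw [smul_coeFn, hl]
      ext g
      rw [mem_stabilizer_iff, mem_stabilizer_iff, smul_fn_mul, hfix]
      exact ⟨fun h => funext fun n => mul_right_cancel₀ (Units.ne_zero (l n)) (congrFun h n),
        fun h => by rw [h]⟩
    have h1 := dvd_of_over N hθ hover hd
    have h2 := dvd_of_over N hμ hη hμ1
    rw [hstab] at h2
    by_cases hm : (stabilizer G θ).index * d = 1
    · -- `θ` is an invariant linear character
      have hidx := Nat.eq_one_of_mul_eq_one_right hm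
      have hd1 := Nat.eq_one_of_mul_eq_one_left hm
      obtain ⟨φ, rfl⟩ := CharCore.IsCharacter.exists_hom_of_degree_one
        (CharCore.IsIrrCharacter.isCharacter hθ) (by rw [hd, hd1, Nat.cast_one])
      have hφ : ∀ g : G, conjLin N g φ = φ := fun g =>
        (stabilizer_coeFn N φ).mp (by
          rw [show stabilizer G (coeFn N φ) = ⊤ from Subgroup.index_eq_one.mp hidx]
          trivial)
      have hφ1 : φ ≠ 1 := fun h => hθ1 (by rw [h]; rfl)
      have hdvd : orderOf φ ∣ Cfsg.charDegree (χ : G → ℂ) :=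
        orderOf_dvd_of_pow_eq_one (pow_degree_eq_one N hNG hφ hover)
      obtain ⟨r, hr, hrd⟩ := Nat.exists_prime_and_dvd (fun h => hφ1 (eq_one_of_orderOf N h))
      have hne : φ * l ≠ 1 := by
        intro h
        apply hpa
        have e : φ = l⁻¹ := MonoidHom.ext fun n => by
          rw [MonoidHom.inv_apply]
          exact eq_inv_of_mul_eq_one_left (DFunLike.congr_fun h n)
        refine (dvd_of_eq ?_).trans hdvd
        rw [e, ← hlo]
        exact (orderOf_inv l).symm
      have hcomm : orderOf (φ * l) = orderOf φ * orderOf l :=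
        (Commute.all φ l).orderOf_mul_eq_mul_orderOf_of_coprime (by
          rw [hlo]
          exact (hp.coprime_iff_not_dvd.mpr fun h => hpa (h.trans hdvd)).symm)
      have hη' : Over N η (coeFn N (φ * l)) := hη
      have hrel := mem_rel_of_over N (CharCore.isIrrCharacter_hom (φ * l)) (coeFn_ne_one N hne) hη'
      have hdvd' : orderOf (φ * l) ∣ Cfsg.charDegree (η : G → ℂ) :=
        orderOf_dvd_of_pow_eq_one (pow_degree_eq_one N hNG (fun g => by rw [map_mul, hφ, hl]) hη')
      exact ⟨⟨_, hrel⟩, hpη, reach_of_prime N hr (hrd.trans hdvd)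
        (hrd.trans ((dvd_mul_right _ _).trans (hcomm ▸ hdvd')))⟩
    · have hne : θ * coeFn N l ≠ 1 := by
        intro h
        have hθl : θ = coeFn N l⁻¹ := funext fun n => by
          have := congrFun h n
          simp only [Pi.mul_apply, coeFn, Pi.one_apply] at this ⊢
          rw [MonoidHom.inv_apply, Units.val_inv_eq_inv_val, eq_inv_of_mul_eq_one_left this]
        apply hm
        subst hθl
        have hd1 : d = 1 := by
          have : ((d : ℕ) : ℂ) = 1 := by rw [← hd]; simp [coeFn]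
          exact_mod_cast this
        rw [hd1, mul_one, Subgroup.index_eq_one, Subgroup.eq_top_iff']
        exact fun g => (stabilizer_coeFn N _).mpr (by rw [conjLin_inv, hl])
      exact ⟨⟨_, mem_rel_of_over N hμ hne hη⟩, hpη, reach_of_not_coprime N
        (fun hc => hm ((Nat.coprime_self _).mp hc)) h1 h2⟩
  intro a b
  obtain ⟨a', ha', hra⟩ := key a
  obtain ⟨b', hb', hrb⟩ := key b
  exact hra.trans ((reach_of_prime N hp ha' hb').trans hrb.symm)

/-- An invariant nontrivial linear character gives one of prime order. -/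
theorem eq_one_of_invariant (hNG : N ≤ commutator G) (hdisc : ¬ (Γ).Preconnected) (φ : N →* ℂˣ)
    (hφ : ∀ g : G, conjLin N g φ = φ) : φ = 1 := by
  by_contra h1
  obtain ⟨p, hp, hpd⟩ := Nat.exists_prime_and_dvd (fun h => h1 (eq_one_of_orderOf N h))
  have ho : 0 < orderOf φ := by
    rw [orderOf_pos_iff, isOfFinOrder_iff_pow_eq_one]
    exact ⟨Nat.card N, Nat.card_pos, MonoidHom.ext fun n => by
      rw [MonoidHom.pow_apply, ← map_pow, pow_card_eq_one', map_one, MonoidHom.one_apply]⟩
  exact hdisc (preconnected_of_invariant N hNG (l := φ ^ (orderOf φ / p))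
    (fun g => by rw [conjLin_pow, hφ g]) hp (orderOf_pow_orderOf_div ho.ne' hpd))

/-- The standing hypotheses in the disconnected case, for a prime `p`. -/
theorem exists_base (hinv : ∀ φ : N →* ℂˣ, (∀ g : G, conjLin N g φ = φ) → φ = 1)
    {p : ℕ} (hp : p.Prime) (hpN : p ∣ ⁅N, N⁆.relIndex N) :
    ∃ l : N →* ℂˣ, orderOf l = p ∧ ¬ p ∣ (stabilizer G (coeFn N l)).index ∧
      (stabilizer G (coeFn N l)).index ≠ 1 := by
  haveI := Fact.mk hp
  haveI : Finite (N →* ℂˣ) := by
    haveI : Finite {χ : Cfsg.IrrCharacter N // (χ : N → ℂ) 1 = 1} := inferInstance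
    exact Finite.of_equiv _ CharCore.linearEquivHom.symm
  have hcard : p ∣ Nat.card (N →* ℂˣ) := by
    rw [Nat.card_congr CharCore.linearEquivHom, CharCore.card_linearCharacters]
    have he : (⁅N, N⁆).subgroupOf N = commutator N := by
      rw [← Subgroup.map_subtype_commutator N, Subgroup.subgroupOf,
        Subgroup.comap_map_eq_self_of_injective N.subtype_injective]
    rw [← he]
    exact hpN
  obtain ⟨l₀, hl₀⟩ := exists_prime_orderOf_dvd_card' p hcard
  let S : Subgroup (N →* ℂˣ) := (powMonoidHom p).ker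
  obtain ⟨P⟩ : Nonempty (Sylow p G) := inferInstance
  letI : MulAction (P : Subgroup G) S :=
    { smul := fun g φ => ⟨conjLin N g φ, by
        show (conjLin N g φ.1) ^ p = 1
        rw [← conjLin_pow, show φ.1 ^ p = 1 from φ.2, map_one]⟩
      one_smul := fun φ => Subtype.ext (by
        show conjLin N ((1 : (P : Subgroup G)) : G) φ.1 = φ.1
        apply coeFn_injective N
        rw [← smul_coeFn, OneMemClass.coe_one, one_smul])
      mul_smul := fun g h φ => Subtype.ext (by
        show conjLin N ((g * h : (P : Subgroup G)) : G) φ.1 = conjLin N g (conjLin N h φ.1)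
        apply coeFn_injective N
        rw [← smul_coeFn, ← smul_coeFn, ← smul_coeFn, Subgroup.coe_mul, mul_smul]) }
  have hdvd : p ∣ Nat.card S := by
    have hmem : l₀ ∈ S := by
      show l₀ ^ p = 1
      rw [← hl₀, pow_orderOf_eq_one]
    have := S.orderOf_dvd_natCard hmem
    rwa [hl₀] at this
  obtain ⟨b, hb, hb1⟩ := P.2.exists_fixed_point_of_prime_dvd_card_of_fixed_point S hdvd
    (a := 1) (fun g => Subtype.ext (map_one (conjLin N (g : G))))
  have hl1 : b.1 ≠ 1 := fun h => hb1 (Subtype.ext h.symm)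
  have hle : (P : Subgroup G) ≤ stabilizer G (coeFn N b.1) := fun g hg =>
    (stabilizer_coeFn N b.1).mpr (congrArg Subtype.val (hb ⟨g, hg⟩))
  refine ⟨b.1, orderOf_eq_prime b.2 hl1, fun h => P.not_dvd_index
    (h.trans (Subgroup.index_dvd_of_le hle)), fun h => hl1 (hinv _ fun g =>
      (stabilizer_coeFn N _).mp (by rw [Subgroup.index_eq_one.mp h]; trivial))⟩

/-- A degree prime to `p` is within two steps of every degree over the base character. -/
theorem star_two (hinv : ∀ φ : N →* ℂˣ, (∀ g : G, conjLin N g φ = φ) → φ = 1)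
    {p : ℕ} (hp : p.Prime) {l : N →* ℂˣ} (hlo : orderOf l = p)
    (hlp : ¬ p ∣ (stabilizer G (coeFn N l)).index) (ht0 : (stabilizer G (coeFn N l)).index ≠ 1)
    (a b : ↥(Cfsg.relCharDegrees N)) (ha : ¬ p ∣ a.1)
    (hb : (stabilizer G (coeFn N l)).index ∣ b.1) : ¬ Nat.Coprime a.1 b.1 ∨
    ∃ c : ↥(Cfsg.relCharDegrees N), ¬ Nat.Coprime a.1 c.1 ∧ ¬ Nat.Coprime c.1 b.1 := by
  haveI := Fact.mk hp
  obtain ⟨a, haV⟩ := a
  have ha' := haV
  obtain ⟨χ, hker, rfl⟩ := ha'
  obtain ⟨θ, hθ, hθ1, hover⟩ := exists_constituent_ne_one N hker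
  obtain ⟨d, -, hd⟩ := CharCore.IsIrrCharacter.exists_degree hθ
  have h1 := dvd_of_over N hθ hover hd
  set t0 := (stabilizer G (coeFn N l)).index with ht0def
  by_cases hc : Nat.Coprime (Cfsg.charDegree (χ : G → ℂ)) t0
  swap
  · exact .inl fun h => hc (h.coprime_dvd_right hb)
  have hcop : Nat.Coprime (stabilizer G θ).index t0 :=
    hc.coprime_dvd_left ((dvd_mul_right _ d).trans h1)
  have hpt : ¬ p ∣ (stabilizer G θ).index := fun h => ha ((h.trans (dvd_mul_right _ d)).trans h1)
  have hpd : ¬ p ∣ d := fun h => ha ((h.trans (dvd_mul_left d _)).trans h1)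
  have hμ : Cfsg.IsIrrCharacter N (θ * coeFn N l) := by
    rw [mul_comm]
    exact CharCore.isIrrCharacter_hom_mul l hθ
  have hμ1 : θ * coeFn N l ≠ 1 := by
    intro h
    have hθl : θ = coeFn N l⁻¹ := funext fun n => by
      have := congrFun h n
      simp only [Pi.mul_apply, coeFn, Pi.one_apply] at this ⊢
      rw [MonoidHom.inv_apply, Units.val_inv_eq_inv_val, eq_inv_of_mul_eq_one_left this]
    apply ht0
    have hs : stabilizer G θ = stabilizer G (coeFn N l) := by
      ext g
      rw [hθl, stabilizer_coeFn, stabilizer_coeFn, conjLin_inv]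
      exact ⟨fun h => MonoidHom.ext fun n => inv_injective (DFunLike.congr_fun h n), fun h => by rw [h]⟩
    rw [hs] at hcop
    exact (Nat.coprime_self _).mp hcop
  obtain ⟨η, hη⟩ := exists_over_irr N hμ
  let c : ↥(Cfsg.relCharDegrees N) := ⟨_, mem_rel_of_over N hμ hμ1 hη⟩
  have h2 := dvd_of_over N hμ hη (d := d) (by rw [Pi.mul_apply, hd]; simp [coeFn])
  have hu : ¬ Nat.Coprime (stabilizer G (θ * coeFn N l)).index t0 := by
    intro hu
    apply ht0
    rw [ht0def, Subgroup.index_eq_one, Subgroup.eq_top_iff']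
    intro g
    refine (stabilizer_coeFn N l).mpr ?_
    set w := conjLin N g l * (conjLin N 1 l)⁻¹
    have hlp' : l ^ p = 1 := by rw [← hlo, pow_orderOf_eq_one]
    have hw : w ^ p = 1 := by
      refine MonoidHom.ext fun n => ?_
      have e1 : ∀ x : G, conjLin N x l n ^ p = 1 := fun x => DFunLike.congr_fun hlp' _
      rw [MonoidHom.pow_apply, MonoidHom.mul_apply, MonoidHom.inv_apply, mul_pow, inv_pow, e1, e1,
        inv_one, mul_one, MonoidHom.one_apply]
    obtain ⟨θ', ⟨x, rfl⟩, hfix⟩ := exists_fixed_mul N hpt hw (fun a' ha' => shift N hcop hu ha' g 1)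
    have hx : Cfsg.IsIrrCharacter N (x • θ) := by
      have := isIrrCharacter_conjFn N hθ x⁻¹
      exact this
    have hxd : (x • θ) 1 = (d : ℂ) := by rw [smul_fn_apply, map_one, hd]
    have hdet := detHom_hom_mul w (CharCore.IsIrrCharacter.isCharacter hx) hxd
    rw [show (fun n => (w n : ℂ) * (x • θ) n) = x • θ from
      funext fun n => (mul_comm _ _).trans (congrFun hfix n)] at hdet
    have hwd : w ^ d = 1 := by
      refine MonoidHom.ext fun n => ?_
      have := DFunLike.congr_fun hdet n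
      rw [MonoidHom.mul_apply] at this
      exact mul_eq_right.mp this.symm
    have hw1 : w = 1 := eq_one_of_orderOf N (Nat.eq_one_of_dvd_coprimes
      (hp.coprime_iff_not_dvd.mpr hpd) (orderOf_dvd_of_pow_eq_one hw) (orderOf_dvd_of_pow_eq_one hwd))
    have hone : conjLin N 1 l = l :=
      coeFn_injective N (by rw [← smul_coeFn, one_smul])
    refine MonoidHom.ext fun n => ?_
    have := DFunLike.congr_fun hw1 n
    rw [MonoidHom.mul_apply, MonoidHom.inv_apply, MonoidHom.one_apply, mul_inv_eq_one, hone] at this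
    exact this
  refine .inr ⟨c, ?_, fun h =>
    hu ((h.coprime_dvd_left ((dvd_mul_right _ d).trans h2)).coprime_dvd_right hb)⟩
  by_cases hd1 : d = 1
  swap
  · exact fun h => hd1 ((Nat.coprime_self d).mp
      ((h.coprime_dvd_left ((dvd_mul_left d _).trans h1)).coprime_dvd_right
        ((dvd_mul_left d _).trans h2)))
  obtain ⟨φ, rfl⟩ := CharCore.IsCharacter.exists_hom_of_degree_one
    (CharCore.IsIrrCharacter.isCharacter hθ) (by rw [hd, hd1, Nat.cast_one])
  intro hcc
  have h : Nat.Coprime (stabilizer G (coeFn N φ)).index (stabilizer G (coeFn N φ * coeFn N l)).index :=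
    (hcc.coprime_dvd_left ((dvd_mul_right _ d).trans h1)).coprime_dvd_right
      ((dvd_mul_right _ d).trans h2)
  refine hθ1 (show coeFn N φ = 1 from ?_)
  rw [hinv φ fun g => ?_, coeFn_one]
  set w := conjLin N g φ * (conjLin N 1 φ)⁻¹
  have hcl : ∀ a' ∈ orbit G (coeFn N l), a' * coeFn N w ∈ orbit G (coeFn N l) := fun a' ha' =>
    shift N (a := coeFn N l) (φ := φ) hcop.symm
      (by rw [mul_comm]; exact h.symm) ha' g 1
  have hlp' : l ^ p = 1 := by rw [← hlo, pow_orderOf_eq_one]
  have hw : w ^ p = 1 := by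
    obtain ⟨y, hy⟩ := mem_orbit_coeFn N (hcl _ (mem_orbit_self _))
    rw [← coeFn_mul] at hy
    refine MonoidHom.ext fun n => ?_
    have e := congrArg (· ^ p) (DFunLike.congr_fun (coeFn_injective N hy) n)
    have e1 : ∀ m, l m ^ p = 1 := fun m => DFunLike.congr_fun hlp' m
    simp only [MonoidHom.mul_apply, mul_pow, e1, one_mul] at e
    rw [MonoidHom.pow_apply, e]
    exact e1 _
  obtain ⟨l', hl', hfix⟩ := exists_fixed_mul N hlp hw hcl
  obtain ⟨y, rfl⟩ := mem_orbit_coeFn N hl'
  rw [← coeFn_mul] at hfix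
  have hone : conjLin N 1 φ = φ := coeFn_injective N (by rw [← smul_coeFn, one_smul])
  refine MonoidHom.ext fun n => ?_
  have := DFunLike.congr_fun (coeFn_injective N hfix) n
  rw [MonoidHom.mul_apply, mul_eq_left, MonoidHom.mul_apply, MonoidHom.inv_apply, mul_inv_eq_one,
    hone] at this
  exact this

/-- In the disconnected case a degree prime to `p` reaches every degree over the base character. -/
theorem star (hinv : ∀ φ : N →* ℂˣ, (∀ g : G, conjLin N g φ = φ) → φ = 1)
    {p : ℕ} (hp : p.Prime) {l : N →* ℂˣ} (hlo : orderOf l = p)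
    (hlp : ¬ p ∣ (stabilizer G (coeFn N l)).index) (ht0 : (stabilizer G (coeFn N l)).index ≠ 1)
    (a b : ↥(Cfsg.relCharDegrees N)) (ha : ¬ p ∣ a.1)
    (hb : (stabilizer G (coeFn N l)).index ∣ b.1) : (Γ).Reachable a b := by
  rcases star_two N hinv hp hlo hlp ht0 a b ha hb with h | ⟨c, h1, h2⟩
  · exact reach_of_not_coprime N h dvd_rfl dvd_rfl
  · exact (reach_of_not_coprime N h1 dvd_rfl dvd_rfl).trans (reach_of_not_coprime N h2 dvd_rfl dvd_rfl)

/-- A degree which is a multiple of the orbit size of the base character. -/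
theorem exists_base_vertex {l : N →* ℂˣ} (hl : l ≠ 1) :
    ∃ b : ↥(Cfsg.relCharDegrees N), (stabilizer G (coeFn N l)).index ∣ b.1 := by
  have hirr : Cfsg.IsIrrCharacter N (coeFn N l) := CharCore.isIrrCharacter_hom l
  obtain ⟨η, hη⟩ := exists_over_irr N hirr
  exact ⟨⟨_, mem_rel_of_over N hirr (coeFn_ne_one N hl) hη⟩,
    (dvd_mul_right _ 1).trans (dvd_of_over N hirr hη (d := 1) (by simp [coeFn]))⟩

theorem card_components_le (hN' : ⁅N, N⁆ < N) (hNG : N ≤ commutator G) :
    Nat.card (Γ).ConnectedComponent ≤ 2 := by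
  by_cases hpre : (Γ).Preconnected
  · have : Subsingleton (Γ).ConnectedComponent := hpre.subsingleton_connectedComponent
    have := Finite.card_le_one_iff_subsingleton.mpr this
    omega
  have hinv := eq_one_of_invariant N hNG hpre
  have hne : ⁅N, N⁆.relIndex N ≠ 1 := fun h => absurd (Subgroup.relIndex_eq_one.mp h) hN'.not_ge
  obtain ⟨p, hp, hpN⟩ := Nat.exists_prime_and_dvd hne
  obtain ⟨l, hlo, hlp, ht0⟩ := exists_base N hinv hp hpN
  obtain ⟨b, hb⟩ := exists_base_vertex N (l := l)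
    (fun h => hp.ne_one (by rw [← hlo, h, orderOf_one]))
  classical
  let f : Bool → (Γ).ConnectedComponent := fun s => if s then (Γ).connectedComponentMk b else
    if h : ∃ v : ↥(Cfsg.relCharDegrees N), p ∣ v.1 then (Γ).connectedComponentMk h.choose
    else (Γ).connectedComponentMk b
  have hf : Function.Surjective f := by
    intro c
    induction c using SimpleGraph.ConnectedComponent.ind with
    | h v =>
      by_cases hv : p ∣ v.1
      · refine ⟨false, ?_⟩
        have h : ∃ v : ↥(Cfsg.relCharDegrees N), p ∣ v.1 := ⟨v, hv⟩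
        show (if h : _ then _ else _) = _
        rw [dif_pos h]
        exact SimpleGraph.ConnectedComponent.sound (reach_of_prime N hp h.choose_spec hv)
      · exact ⟨true, SimpleGraph.ConnectedComponent.sound (star N hinv hp hlo hlp ht0 v b hv hb).symm⟩
  have := Nat.card_le_card_of_surjective f hf
  simpa using this

theorem dvd_of_not_reachable (hNG : N ≤ commutator G) {a b : ↥(Cfsg.relCharDegrees N)}
    (hab : ¬ (Γ).Reachable a b) {p : ℕ} (hp : p.Prime) (hpN : p ∣ ⁅N, N⁆.relIndex N) :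
    p ∣ a.1 ∧ ¬ p ∣ b.1 ∨ p ∣ b.1 ∧ ¬ p ∣ a.1 := by
  have hinv := eq_one_of_invariant N hNG (fun h => hab (h a b))
  obtain ⟨l, hlo, hlp, ht0⟩ := exists_base N hinv hp hpN
  obtain ⟨c, hc⟩ := exists_base_vertex N (l := l)
    (fun h => hp.ne_one (by rw [← hlo, h, orderOf_one]))
  by_cases hpa : p ∣ a.1
  · exact .inl ⟨hpa, fun hpb => hab (reach_of_prime N hp hpa hpb)⟩
  · by_cases hpb : p ∣ b.1
    · exact .inr ⟨hpb, hpa⟩
    · exact absurd ((star N hinv hp hlo hlp ht0 a c hpa hc).trans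
        (star N hinv hp hlo hlp ht0 b c hpb hc).symm) hab

/-- Two primes dividing `|N : N'|` lie on the same side. -/
theorem side_eq (hNG : N ≤ commutator G) {a b : ↥(Cfsg.relCharDegrees N)}
    (hab : ¬ (Γ).Reachable a b) {p r : ℕ} (hp : p.Prime) (hr : r.Prime)
    (hpN : p ∣ ⁅N, N⁆.relIndex N) (hrN : r ∣ ⁅N, N⁆.relIndex N)
    (hpb : ¬ p ∣ b.1) (hra : ¬ r ∣ a.1) : False := by
  have hinv := eq_one_of_invariant N hNG (fun h => hab (h a b))
  have hne : p ≠ r := by
    rintro rfl
    rcases dvd_of_not_reachable N hNG hab hp hpN with h | h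
    · exact hra h.1
    · exact hpb h.1
  obtain ⟨lp, hlpo, hlpp, htp⟩ := exists_base N hinv hp hpN
  obtain ⟨lr, hlro, hlrp, htr⟩ := exists_base N hinv hr hrN
  have hlp1 : lp ≠ 1 := fun h => hp.ne_one (by rw [← hlpo, h, orderOf_one])
  have hlr1 : lr ≠ 1 := fun h => hr.ne_one (by rw [← hlro, h, orderOf_one])
  have hcop : Nat.Coprime (orderOf lp) (orderOf lr) := by
    rw [hlpo, hlro]; exact (Nat.coprime_primes hp hr).mpr hne
  obtain ⟨cp, hcp⟩ := exists_base_vertex N hlp1
  obtain ⟨cr, hcr⟩ := exists_base_vertex N hlr1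
  have hm1 : lp * lr ≠ 1 := fun h => by
    have h1 := (Commute.all lp lr).orderOf_mul_eq_mul_orderOf_of_coprime hcop
    rw [h, orderOf_one, hlpo] at h1
    exact hp.ne_one (Nat.eq_one_of_mul_eq_one_right h1.symm)
  obtain ⟨c, hc⟩ := exists_base_vertex N hm1
  have hle : ∀ (l₁ l₂ : N →* ℂˣ), Nat.Coprime (orderOf l₁) (orderOf l₂) →
      stabilizer G (coeFn N (l₁ * l₂)) ≤ stabilizer G (coeFn N l₁) := by
    intro l₁ l₂ hco g hg
    rw [stabilizer_coeFn] at hg ⊢
    obtain ⟨k, hk⟩ := exists_pow_eq_self_of_coprime (x := l₁) hco.symm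
    have e : (l₁ * l₂) ^ (orderOf l₂ * k) = l₁ := by
      refine (mul_pow l₁ l₂ _).trans (MonoidHom.ext fun n => ?_)
      have h2 : l₂ n ^ orderOf l₂ = 1 := DFunLike.congr_fun (pow_orderOf_eq_one l₂) n
      have h3 : (l₁ n ^ orderOf l₂) ^ k = l₁ n := DFunLike.congr_fun hk n
      rw [MonoidHom.mul_apply, MonoidHom.pow_apply, MonoidHom.pow_apply, pow_mul, pow_mul, h2,
        one_pow, mul_one, h3]
    rw [← e, conjLin_pow, hg]
  have hdp : (stabilizer G (coeFn N lp)).index ∣ c.1 :=
    (Subgroup.index_dvd_of_le (hle lp lr hcop)).trans hc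
  have hdr : (stabilizer G (coeFn N lr)).index ∣ c.1 :=
    (Subgroup.index_dvd_of_le (mul_comm lr lp ▸ hle lr lp hcop.symm)).trans hc
  have h1 := star N hinv hp hlpo hlpp htp b cp hpb hcp
  have h2 := star N hinv hr hlro hlrp htr a cr hra hcr
  have h3 : (Γ).Reachable cp c :=
    reach_of_not_coprime N (fun h => htp ((Nat.coprime_self _).mp h)) hcp hdp
  have h4 : (Γ).Reachable cr c :=
    reach_of_not_coprime N (fun h => htr ((Nat.coprime_self _).mp h)) hcr hdr
  exact hab (h2.trans (h4.trans (h3.symm.trans h1.symm)))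

theorem disconnected_pair (hN' : ⁅N, N⁆ < N) (hNG : N ≤ commutator G)
    {a b : ↥(Cfsg.relCharDegrees N)} (hab : ¬ (Γ).Reachable a b) :
    (Nat.Coprime a.1 (⁅N, N⁆.relIndex N) ∧
        ∀ r : ℕ, r.Prime → r ∣ ⁅N, N⁆.relIndex N → r ∣ b.1) ∨
      (Nat.Coprime b.1 (⁅N, N⁆.relIndex N) ∧
        ∀ r : ℕ, r.Prime → r ∣ ⁅N, N⁆.relIndex N → r ∣ a.1) := by
  have hne : ⁅N, N⁆.relIndex N ≠ 1 := fun h => absurd (Subgroup.relIndex_eq_one.mp h) hN'.not_ge
  obtain ⟨p, hp, hpN⟩ := Nat.exists_prime_and_dvd hne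
  rcases dvd_of_not_reachable N hNG hab hp hpN with ⟨hpa, hpb⟩ | ⟨hpb, hpa⟩
  · refine .inr ?_
    have hall : ∀ r : ℕ, r.Prime → r ∣ ⁅N, N⁆.relIndex N → r ∣ a.1 ∧ ¬ r ∣ b.1 := fun r hr hrN => by
      refine (dvd_of_not_reachable N hNG hab hr hrN).resolve_right fun h => ?_
      exact side_eq N hNG hab hp hr hpN hrN hpb h.2
    exact ⟨Nat.coprime_of_dvd fun r hr h1 h2 => (hall r hr h2).2 h1, fun r hr h => (hall r hr h).1⟩
  · refine .inl ?_
    have hall : ∀ r : ℕ, r.Prime → r ∣ ⁅N, N⁆.relIndex N → r ∣ b.1 ∧ ¬ r ∣ a.1 := fun r hr hrN => by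
      refine (dvd_of_not_reachable N hNG hab hr hrN).resolve_left fun h => ?_
      exact side_eq N hNG hab hr hp hrN hpN h.2 hpa
    exact ⟨Nat.coprime_of_dvd fun r hr h1 h2 => (hall r hr h2).2 h1, fun r hr h => (hall r hr h).1⟩

end Cfsg.Agent.BC86.RelGraph
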